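import Mathlib

/-! Fixed points of Sylow subgroups: basic notions. -/

set_option autoImplicit false
set_option linter.unusedSectionVars false

namespace Cfsg.Agent.FPS

open Classical Finset

variable {G : Type*} [Group G]

/-- conjugation action on subgroups -/
scoped instance actSub : MulAction G (Subgroup G) where
  smul g H := H.comap (MulAut.conj g⁻¹).toMonoidHom
  one_smul H := by
    ext x
    change (1 : G)⁻¹ * x * (1 : G)⁻¹⁻¹ ∈ H ↔ _
    simp
  mul_smul g h H := by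
    ext x
    change (g * h)⁻¹ * x * (g * h)⁻¹⁻¹ ∈ H ↔ h⁻¹ * (g⁻¹ * x * g⁻¹⁻¹) * h⁻¹⁻¹ ∈ H
    simp [mul_assoc]

theorem mem_sm {g x : G} {H : Subgroup G} : x ∈ g • H ↔ g⁻¹ * x * g ∈ H := by
  change g⁻¹ * x * g⁻¹⁻¹ ∈ H ↔ _
  rw [inv_inv]

theorem sm_mem {g x : G} {H : Subgroup G} (hx : x ∈ H) : g * x * g⁻¹ ∈ g • H := by
  rw [mem_sm]; simpa [mul_assoc] using hx

theorem sm_mono {g : G} {H K : Subgroup G} (h : H ≤ K) : g • H ≤ g • K :=
  fun _ hx => mem_sm.2 (h (mem_sm.1 hx))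

theorem sm_le_iff {g : G} {H K : Subgroup G} : g • H ≤ g • K ↔ H ≤ K :=
  ⟨fun h => by simpa using sm_mono (g := g⁻¹) h, sm_mono⟩

theorem le_sm_iff {g : G} {H K : Subgroup G} : H ≤ g • K ↔ g⁻¹ • H ≤ K := by
  rw [← sm_le_iff (g := g) (K := K), smul_inv_smul]

theorem sm_self {g : G} {H : Subgroup G} (hg : g ∈ H) : g • H = H := by
  ext x
  rw [mem_sm]
  constructor
  · intro h
    simpa [mul_assoc] using H.mul_mem (H.mul_mem hg h) (H.inv_mem hg)
  · intro h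
    exact H.mul_mem (H.mul_mem (H.inv_mem hg) h) hg

theorem sm_le {g : G} {H K : Subgroup G} (hg : g ∈ K) (h : H ≤ K) : g • H ≤ K :=
  (sm_mono h).trans (sm_self hg).le

theorem sm_inf {g : G} {H K : Subgroup G} : g • (H ⊓ K) = g • H ⊓ g • K := by
  ext x; simp [mem_sm]

theorem card_sm (g : G) (H : Subgroup G) : Nat.card (g • H : Subgroup G) = Nat.card H :=
  Nat.card_congr ⟨fun x => ⟨g⁻¹ * x.1 * g, mem_sm.1 x.2⟩, fun x => ⟨g * x.1 * g⁻¹, sm_mem x.2⟩,
    fun x => by simp [mul_assoc], fun x => by simp [mul_assoc]⟩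

theorem coe_sm {p : ℕ} (g : G) (Q : Sylow p G) :
    ((g • Q : Sylow p G) : Subgroup G) = g • (Q : Subgroup G) := by
  ext x
  rw [Sylow.coe_subgroup_smul, Subgroup.mem_pointwise_smul_iff_inv_smul_mem, mem_sm]
  simp

variable {Ω : Type*} [MulAction G Ω]

def Fx (V : Subgroup G) (x : Ω) : Prop := ∀ g ∈ V, g • x = x

def St (Z : Subgroup G) (x : Ω) : Subgroup G := Z ⊓ MulAction.stabilizer G x

def Inv (Z : Subgroup G) (C : Finset Ω) : Prop := ∀ g ∈ Z, ∀ x ∈ C, g • x ∈ C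

noncomputable def fx (V : Subgroup G) (C : Finset Ω) : ℕ := (C.filter (Fx V)).card

theorem mem_St {Z : Subgroup G} {x : Ω} {g : G} : g ∈ St Z x ↔ g ∈ Z ∧ g • x = x := by
  simp [St]

theorem le_St {Z V : Subgroup G} {x : Ω} : V ≤ St Z x ↔ V ≤ Z ∧ Fx V x :=
  ⟨fun h => ⟨fun _ hg => (mem_St.1 (h hg)).1, fun _ hg => (mem_St.1 (h hg)).2⟩,
    fun h _ hg => mem_St.2 ⟨h.1 hg, h.2 _ hg⟩⟩

theorem St_le {Z : Subgroup G} {x : Ω} : St Z x ≤ Z := inf_le_left

theorem Fx_St {Z : Subgroup G} {x : Ω} : Fx (St Z x) x := fun _ hg => (mem_St.1 hg).2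

theorem Fx.mono {V U : Subgroup G} {x : Ω} (h : Fx V x) (hU : U ≤ V) : Fx U x :=
  fun g hg => h g (hU hg)

theorem Fx_sm {V : Subgroup G} {x : Ω} (g : G) : Fx (g • V) (g • x) ↔ Fx V x := by
  constructor
  · intro h v hv
    have := h _ (sm_mem (g := g) hv)
    simpa [mul_smul] using this
  · intro h v hv
    have := h _ (mem_sm.1 hv)
    rw [mul_smul, mul_smul, inv_smul_eq_iff] at this
    exact this

theorem St_sm (g : G) (Z : Subgroup G) (x : Ω) : g • St Z x = St (g • Z) (g • x) := by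
  ext v
  rw [mem_sm, mem_St, mem_St, mem_sm, mul_smul, mul_smul, inv_smul_eq_iff]

theorem Inv.mono {Z V : Subgroup G} {C : Finset Ω} (h : Inv Z C) (hV : V ≤ Z) : Inv V C :=
  fun g hg => h g (hV hg)

theorem Inv.sdiff {Z : Subgroup G} {C D : Finset Ω} (hC : Inv Z C) (hD : Inv Z D) :
    Inv Z (C \ D) := by
  intro h hh x hx
  rw [mem_sdiff] at hx ⊢
  refine ⟨hC h hh x hx.1, fun h2 => hx.2 ?_⟩
  simpa using hD h⁻¹ (Z.inv_mem hh) _ h2

theorem Inv.erase {Z : Subgroup G} {C : Finset Ω} (hC : Inv Z C) {a : Ω} (ha : Fx Z a) :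
    Inv Z (C.erase a) := by
  intro h hh x hx
  rw [mem_erase] at hx ⊢
  refine ⟨fun h2 => hx.1 ?_, hC h hh x hx.2⟩
  rw [← ha h hh] at h2
  exact MulAction.injective h h2

theorem Inv.union {Z : Subgroup G} {C D : Finset Ω} (hC : Inv Z C) (hD : Inv Z D) :
    Inv Z (C ∪ D) := by
  intro h hh x hx
  rw [mem_union] at hx ⊢
  exact hx.imp (hC h hh x) (hD h hh x)

theorem fx_le (V : Subgroup G) (C : Finset Ω) : fx V C ≤ C.card := card_filter_le _ _

theorem fx_split (V : Subgroup G) {C D : Finset Ω} (h : D ⊆ C) :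
    fx V C = fx V (C \ D) + fx V D := by
  unfold fx
  rw [← card_union_of_disjoint, ← filter_union, sdiff_union_of_subset h]
  exact disjoint_filter_filter sdiff_disjoint

theorem fx_erase {V : Subgroup G} {C : Finset Ω} {a : Ω} (ha : a ∈ C) (h : Fx V a) :
    fx V C = fx V (C.erase a) + 1 := by
  rw [fx_split V (singleton_subset_iff.2 ha), sdiff_singleton_eq_erase]
  congr 1
  unfold fx
  rw [filter_singleton, if_pos h, card_singleton]

theorem fx_pos {V : Subgroup G} {C : Finset Ω} : 0 < fx V C ↔ ∃ x ∈ C, Fx V x := by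
  unfold fx
  rw [card_pos]
  exact ⟨fun ⟨x, hx⟩ => ⟨x, mem_filter.1 hx⟩, fun ⟨x, hx⟩ => ⟨x, mem_filter.2 hx⟩⟩

theorem fx_image (g : G) (V : Subgroup G) (C : Finset Ω) :
    fx (g • V) (C.image (g • ·)) = fx V C := by
  unfold fx
  rw [filter_image, card_image_of_injective _ (MulAction.injective g)]
  congr 1
  exact filter_congr fun x _ => Fx_sm g

theorem image_inv {Z : Subgroup G} {C : Finset Ω} (hC : Inv Z C) {g : G} (hg : g ∈ Z) :
    C.image (g • ·) = C := by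
  apply eq_of_subset_of_card_le
  · intro x hx
    obtain ⟨y, hy, rfl⟩ := mem_image.1 hx
    exact hC g hg y hy
  · rw [card_image_of_injective _ (MulAction.injective g)]

variable [Fintype G]

noncomputable def els (Z : Subgroup G) : Finset G := univ.filter (· ∈ Z)

noncomputable def orb (Z : Subgroup G) (x : Ω) : Finset Ω := (els Z).image (· • x)

theorem mem_els {Z : Subgroup G} {g : G} : g ∈ els Z ↔ g ∈ Z := by simp [els]

theorem card_els (Z : Subgroup G) : (els Z).card = Nat.card Z := by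
  rw [← Nat.card_eq_finsetCard]
  exact Nat.card_congr (Equiv.subtypeEquivRight fun g => mem_els)

theorem mem_orb {Z : Subgroup G} {x z : Ω} : z ∈ orb Z x ↔ ∃ h ∈ Z, h • x = z := by
  simp [orb, mem_els]

theorem self_mem {Z : Subgroup G} (x : Ω) : x ∈ orb Z x := mem_orb.2 ⟨1, Z.one_mem, one_smul _ _⟩

theorem orb_inv {Z : Subgroup G} (x : Ω) : Inv Z (orb Z x) := by
  intro h hh z hz
  obtain ⟨k, hk, rfl⟩ := mem_orb.1 hz
  exact mem_orb.2 ⟨h * k, Z.mul_mem hh hk, mul_smul _ _ _⟩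

theorem orb_sub {Z : Subgroup G} {C : Finset Ω} (hC : Inv Z C) {x : Ω} (hx : x ∈ C) :
    orb Z x ⊆ C := by
  intro z hz
  obtain ⟨k, hk, rfl⟩ := mem_orb.1 hz
  exact hC k hk x hx

theorem orb_symm {Z : Subgroup G} {x z : Ω} (hz : z ∈ orb Z x) : x ∈ orb Z z := by
  obtain ⟨k, hk, rfl⟩ := mem_orb.1 hz
  exact mem_orb.2 ⟨k⁻¹, Z.inv_mem hk, by simp⟩

theorem orb_eq {Z : Subgroup G} {x z : Ω} (hz : z ∈ orb Z x) : orb Z z = orb Z x :=
  Subset.antisymm (orb_sub (orb_inv x) hz) (orb_sub (orb_inv z) (orb_symm hz))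

theorem orb_tr {Z : Subgroup G} {x y z : Ω} (hy : y ∈ orb Z x) (hz : z ∈ orb Z x) :
    ∃ g ∈ Z, g • y = z := mem_orb.1 (by rw [orb_eq hy]; exact hz)

theorem orb_mono {Z V : Subgroup G} (h : V ≤ Z) (x : Ω) : orb V x ⊆ orb Z x :=
  orb_sub ((orb_inv x).mono h) (self_mem x)

theorem orb_sm (g : G) (Z : Subgroup G) (x : Ω) :
    orb (g • Z) (g • x) = (orb Z x).image (g • ·) := by
  ext z
  rw [mem_orb, mem_image]
  constructor
  · rintro ⟨h, hh, rfl⟩
    exact ⟨(g⁻¹ * h * g) • x, mem_orb.2 ⟨_, mem_sm.1 hh, rfl⟩, by simp [mul_smul]⟩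
  · rintro ⟨y, hy, rfl⟩
    obtain ⟨h, hh, rfl⟩ := mem_orb.1 hy
    exact ⟨_, sm_mem hh, by simp [mul_smul]⟩

theorem orbstab (Z : Subgroup G) (a : Ω) : Nat.card Z = (orb Z a).card * Nat.card (St Z a) := by
  rw [← card_els, card_eq_sum_card_fiberwise (f := fun g => g • a) (t := orb Z a)]
  · rw [sum_congr rfl (g := fun _ => Nat.card (St Z a)), sum_const, smul_eq_mul]
    intro z hz
    obtain ⟨h, hh, rfl⟩ := mem_orb.1 hz
    rw [← card_els]
    apply card_bij (fun g _ => h⁻¹ * g)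
    · intro g hg
      rw [mem_filter, mem_els] at hg
      exact mem_els.2 (mem_St.2 ⟨Z.mul_mem (Z.inv_mem hh) hg.1, by simp [mul_smul, hg.2]⟩)
    · intro a _ d _ h; exact mul_left_cancel h
    · intro g hg
      rw [mem_els, mem_St] at hg
      exact ⟨h * g, mem_filter.2 ⟨mem_els.2 (Z.mul_mem hh hg.1), by simp [mul_smul, hg.2]⟩,
        by simp⟩
  · intro g hg
    exact mem_orb.2 ⟨g, mem_els.1 hg, rfl⟩

/-- induction over the orbits of an invariant set -/
theorem orb_ind {Z : Subgroup G} (P : Finset Ω → Prop) (h0 : P ∅)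
    (hs : ∀ C x, Inv Z C → x ∈ C → P (C \ orb Z x) → P C) :
    ∀ C : Finset Ω, Inv Z C → P C := by
  intro C
  induction C using Finset.strongInduction with
  | _ C ih =>
    intro hC
    rcases C.eq_empty_or_nonempty with rfl | ⟨x, hx⟩
    · exact h0
    · refine hs C x hC hx (ih _ ?_ (hC.sdiff (orb_inv x)))
      exact sdiff_ssubset (orb_sub hC hx) ⟨x, self_mem x⟩

theorem eq_of_le_card {H K : Subgroup G} (h : H ≤ K) (hc : Nat.card K ≤ Nat.card H) : H = K :=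
  Subgroup.eq_of_le_of_card_ge h hc

theorem card_lt {H K : Subgroup G} (h : H ≤ K) (hne : H ≠ K) : Nat.card H < Nat.card K := by
  by_contra hc
  exact hne (eq_of_le_card h (not_lt.1 hc))

/-- connectivity of invariant relations for a primitive orbit -/
theorem conn {X : Subgroup G} {a : Ω} (hmax : ∀ V, St X a ≤ V → V ≤ X → V = St X a ∨ V = X)
    (R : Ω → Ω → Prop) (hR : ∀ g ∈ X, ∀ x y, R x y → R (g • x) (g • y))
    {b : Ω} (hb : b ∈ orb X a) (hab : b ≠ a) (hRab : R a b)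
    (C : Set Ω) (hC : ∀ x ∈ C, ∀ y, R x y → y ∈ C) {c : Ω} (hc : c ∈ orb X a) (hcC : c ∈ C) :
    ∀ z ∈ orb X a, z ∈ C := by
  let M : Submonoid G :=
    { carrier := {g | g ∈ X ∧ ∀ D : Set Ω, (∀ x ∈ D, ∀ y, R x y → y ∈ D) → a ∈ D → g • a ∈ D}
      one_mem' := ⟨X.one_mem, fun D _ h => by simpa using h⟩
      mul_mem' := by
        rintro g h ⟨hg, hg2⟩ ⟨hh, hh2⟩
        refine ⟨X.mul_mem hg hh, fun D hD haD => ?_⟩
        rw [mul_smul]
        exact hh2 {x | g • x ∈ D} (fun x hx y hxy => hD _ hx _ (hR g hg x y hxy)) (hg2 D hD haD) }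
  let V : Subgroup G :=
    { M with
      inv_mem' := by
        intro g hg
        have h1 : g⁻¹ = g ^ (orderOf g - 1) := by
          rw [inv_eq_iff_mul_eq_one, ← pow_succ', Nat.sub_add_cancel (orderOf_pos g),
            pow_orderOf_eq_one]
        rw [h1]
        exact M.pow_mem hg _ }
  have hV : V = X := by
    refine (hmax V (fun g hg => ?_) (fun g hg => hg.1)).resolve_left fun h => ?_
    · rw [mem_St] at hg
      exact ⟨hg.1, fun D _ h => by rw [hg.2]; exact h⟩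
    · obtain ⟨g, hg, rfl⟩ := mem_orb.1 hb
      have : g ∈ V := ⟨hg, fun D hD haD => hD a haD _ hRab⟩
      rw [h] at this
      exact hab (mem_St.1 this).2
  intro z hz
  obtain ⟨k, hk, rfl⟩ := mem_orb.1 hc
  obtain ⟨g, hg, rfl⟩ := mem_orb.1 hz
  have h1 : k⁻¹ * g ∈ V := by rw [hV]; exact X.mul_mem (X.inv_mem hk) hg
  have := h1.2 {x | k • x ∈ C} (fun x hx y hxy => hC _ hx _ (hR k hk x y hxy)) hcC
  simpa [mul_smul] using this

section Syl

variable (p : ℕ)

def Op (Z : Subgroup G) : Subgroup G :=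
  ⨆ Q : Sylow p G, ⨆ _ : (Q : Subgroup G) ≤ Z, (Q : Subgroup G)

structure Good (Z : Subgroup G) : Prop where
  op : Op p Z = Z
  ex : ∃ Q : Sylow p G, (Q : Subgroup G) ≤ Z

noncomputable def nu (Z : Subgroup G) : ℕ :=
  Set.ncard {Q : Sylow p G | (Q : Subgroup G) ≤ Z}

noncomputable def tt (V : Subgroup G) (C : Finset Ω) : ℕ := (C.card - fx V C) / p

noncomputable def dl (V : Subgroup G) (C : Finset Ω) : ℤ :=
  (tt p V C : ℤ) * (p - 1) - fx V C

variable {p}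

theorem Op_le_iff {Z V : Subgroup G} :
    Op p Z ≤ V ↔ ∀ Q : Sylow p G, (Q : Subgroup G) ≤ Z → (Q : Subgroup G) ≤ V := by
  simp [Op]

theorem Op_le {Z : Subgroup G} : Op p Z ≤ Z := Op_le_iff.2 fun _ h => h

theorem le_Op {Z : Subgroup G} {Q : Sylow p G} : (Q : Subgroup G) ≤ Op p Z ↔ (Q : Subgroup G) ≤ Z :=
  ⟨fun h => h.trans Op_le, fun h => Op_le_iff.1 le_rfl Q h⟩

theorem Op_mono' {Z V : Subgroup G}
    (h : ∀ Q : Sylow p G, (Q : Subgroup G) ≤ Z → (Q : Subgroup G) ≤ V) : Op p Z ≤ Op p V :=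
  Op_le_iff.2 fun Q hQ => le_Op.2 (h Q hQ)

theorem Op_congr {Z V : Subgroup G}
    (h : ∀ Q : Sylow p G, (Q : Subgroup G) ≤ Z ↔ (Q : Subgroup G) ≤ V) : Op p Z = Op p V :=
  le_antisymm (Op_mono' fun Q => (h Q).1) (Op_mono' fun Q => (h Q).2)

theorem good_Op {Z : Subgroup G} {Q : Sylow p G} (h : (Q : Subgroup G) ≤ Z) : Good p (Op p Z) :=
  ⟨Op_congr fun _ => le_Op, Q, le_Op.2 h⟩

theorem Good.le {Z V : Subgroup G} (hZ : Good p Z)
    (h : ∀ Q : Sylow p G, (Q : Subgroup G) ≤ Z → (Q : Subgroup G) ≤ V) : Z ≤ V := by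
  rw [← hZ.op]; exact Op_le_iff.2 h

theorem Good.le_Op {Z V : Subgroup G} (hZ : Good p Z) (h : Z ≤ V) : Z ≤ Op p V :=
  hZ.le fun _ hQ => FPS.le_Op.2 (hQ.trans h)

theorem Good.fx {Z : Subgroup G} (hZ : Good p Z) {x : Ω}
    (h : ∀ Q : Sylow p G, (Q : Subgroup G) ≤ Z → Fx (Q : Subgroup G) x) : Fx Z x :=
  (le_St.1 (hZ.le fun Q hQ => le_St.2 ⟨hQ, h Q hQ⟩)).2

theorem Fx_Op {Z : Subgroup G} {x : Ω} : Fx (Op p (St Z x)) x := Fx_St.mono Op_le

theorem Op_sm (g : G) (Z : Subgroup G) : g • Op p Z = Op p (g • Z) := by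
  have key : ∀ (g : G) (Z : Subgroup G), g • Op p Z ≤ Op p (g • Z) := by
    intro g Z
    rw [← sm_le_iff (g := g⁻¹), inv_smul_smul, Op_le_iff]
    intro Q hQ
    rw [le_sm_iff, inv_inv, ← coe_sm, le_Op, coe_sm]
    exact sm_mono hQ
  apply le_antisymm (key g Z)
  have := key g⁻¹ (g • Z)
  rw [inv_smul_smul] at this
  exact le_sm_iff.2 this

theorem Good.sm {Z : Subgroup G} (hZ : Good p Z) (g : G) : Good p (g • Z) := by
  obtain ⟨Q, hQ⟩ := hZ.ex
  exact ⟨by rw [← Op_sm, hZ.op], g • Q, by rw [coe_sm]; exact sm_mono hQ⟩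

theorem nu_sm (g : G) (Z : Subgroup G) : nu p (g • Z) = nu p Z := by
  unfold nu
  rw [← Set.ncard_image_of_injective {Q : Sylow p G | (Q : Subgroup G) ≤ Z}
    (MulAction.injective g (β := Sylow p G))]
  congr 1
  ext Q
  constructor
  · intro h
    exact ⟨g⁻¹ • Q, by
      change ((g⁻¹ • Q : Sylow p G) : Subgroup G) ≤ Z
      rw [coe_sm]; exact le_sm_iff.1 h, by simp⟩
  · rintro ⟨Q', h, rfl⟩
    change ((g • Q' : Sylow p G) : Subgroup G) ≤ _
    rw [coe_sm]; exact sm_mono h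

theorem nu_congr {Z V : Subgroup G}
    (h : ∀ Q : Sylow p G, (Q : Subgroup G) ≤ Z ↔ (Q : Subgroup G) ≤ V) : nu p Z = nu p V := by
  unfold nu
  congr 1
  ext Q
  exact h Q

theorem nu_pos {Z : Subgroup G} {Q : Sylow p G} (h : (Q : Subgroup G) ≤ Z) : 0 < nu p Z :=
  (Set.ncard_pos (Set.toFinite _)).2 ⟨Q, h⟩

variable [hp : Fact p.Prime]

theorem syl_conj {Z : Subgroup G} {Q Q' : Sylow p G} (h : (Q : Subgroup G) ≤ Z)
    (h' : (Q' : Subgroup G) ≤ Z) : ∃ g ∈ Z, g • Q = Q' := by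
  obtain ⟨g, hg⟩ := MulAction.exists_smul_eq Z (Q.subtype h) (Q'.subtype h')
  rw [Sylow.smul_subtype] at hg
  exact ⟨g, g.2, Sylow.subtype_injective hg⟩

theorem fx_eq {Z : Subgroup G} {C : Finset Ω} (hC : Inv Z C) {Q Q' : Sylow p G}
    (h : (Q : Subgroup G) ≤ Z) (h' : (Q' : Subgroup G) ≤ Z) :
    fx (Q : Subgroup G) C = fx (Q' : Subgroup G) C := by
  obtain ⟨g, hg, rfl⟩ := syl_conj h h'
  rw [coe_sm, ← fx_image g, image_inv hC hg]

theorem card_modEq {R : Subgroup G} (hR : IsPGroup p R) {C : Finset Ω} (hC : Inv R C) :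
    C.card ≡ fx R C [MOD p] := by
  let : MulAction R C :=
    { smul := fun g x => ⟨(g : G) • (x : Ω), hC g g.2 x x.2⟩
      one_smul := fun x => Subtype.ext (one_smul G (x : Ω))
      mul_smul := fun g h x => Subtype.ext (mul_smul (g : G) (h : G) (x : Ω)) }
  have := hR.card_modEq_card_fixedPoints C
  rw [Nat.card_eq_finsetCard] at this
  convert this using 1
  unfold fx
  rw [← Nat.card_eq_finsetCard]
  refine Nat.card_congr ⟨fun x => ⟨⟨x.1, (mem_filter.1 x.2).1⟩, fun g => Subtype.ext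
    ((mem_filter.1 x.2).2 g g.2)⟩, fun y => ⟨y.1.1, mem_filter.2 ⟨y.1.2, fun g hg =>
    congrArg Subtype.val (y.2 ⟨g, hg⟩)⟩⟩, fun _ => rfl, fun _ => rfl⟩

theorem card_eq {Q : Sylow p G} {C : Finset Ω} (hC : Inv (Q : Subgroup G) C) :
    C.card = fx (Q : Subgroup G) C + p * tt p (Q : Subgroup G) C := by
  have h1 := (Nat.modEq_iff_dvd' (fx_le (Q : Subgroup G) C)).1 (card_modEq Q.isPGroup' hC).symm
  unfold tt
  rw [Nat.mul_div_cancel' h1]
  have := fx_le (Q : Subgroup G) C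
  omega

theorem tt_eq {Q : Sylow p G} {C : Finset Ω} {t : ℕ}
    (h : C.card = fx (Q : Subgroup G) C + p * t) : tt p (Q : Subgroup G) C = t := by
  unfold tt
  rw [h, Nat.add_sub_cancel_left, Nat.mul_div_cancel_left _ hp.out.pos]

theorem tt_split {Q : Sylow p G} {C D : Finset Ω} (hC : Inv (Q : Subgroup G) C)
    (hD : Inv (Q : Subgroup G) D) (h : D ⊆ C) :
    tt p (Q : Subgroup G) C = tt p (Q : Subgroup G) (C \ D) + tt p (Q : Subgroup G) D := by
  apply tt_eq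
  rw [← card_sdiff_add_card_eq_card h, fx_split _ h, card_eq hD, card_eq (hC.sdiff hD)]
  ring

theorem dl_split {Q : Sylow p G} {C D : Finset Ω} (hC : Inv (Q : Subgroup G) C)
    (hD : Inv (Q : Subgroup G) D) (h : D ⊆ C) :
    dl p (Q : Subgroup G) C = dl p (Q : Subgroup G) (C \ D) + dl p (Q : Subgroup G) D := by
  unfold dl
  rw [tt_split hC hD h, fx_split _ h]
  push_cast
  ring

theorem dl_eq {Z : Subgroup G} {C : Finset Ω} (hC : Inv Z C) {Q Q' : Sylow p G}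
    (h : (Q : Subgroup G) ≤ Z) (h' : (Q' : Subgroup G) ≤ Z) :
    dl p (Q : Subgroup G) C = dl p (Q' : Subgroup G) C := by
  unfold dl tt
  rw [fx_eq hC h h']

theorem dl_image (g : G) (V : Subgroup G) (C : Finset Ω) :
    dl p (g • V) (C.image (g • ·)) = dl p V C := by
  unfold dl tt
  rw [fx_image, card_image_of_injective _ (MulAction.injective g)]

theorem not_dvd_orb {Z : Subgroup G} {x : Ω} {Q : Sylow p G} (h : (Q : Subgroup G) ≤ Z)
    (hx : Fx (Q : Subgroup G) x) : ¬ p ∣ (orb Z x).card := by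
  intro hd
  have h1 : Nat.card Q ∣ Nat.card (St Z x) := Subgroup.card_dvd_of_le (le_St.2 ⟨h, hx⟩)
  have h2 : p * Nat.card Q ∣ Nat.card G :=
    (Nat.mul_dvd_mul hd h1).trans (by rw [← orbstab]; exact Subgroup.card_subgroup_dvd_card Z)
  rw [← Subgroup.card_mul_index (Q : Subgroup G), mul_comm p] at h2
  exact Q.not_dvd_index (Nat.dvd_of_mul_dvd_mul_left Nat.card_pos h2)

/-- a Sylow subgroup of a good subgroup moves a point of every nontrivial orbit -/
theorem Good.moved {Z : Subgroup G} (hZ : Good p Z) {x : Ω} (hx : ¬ Fx Z x) {Q : Sylow p G}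
    (h : (Q : Subgroup G) ≤ Z) : ∃ y ∈ orb Z x, ¬ Fx (Q : Subgroup G) y := by
  by_contra hcon
  push Not at hcon
  refine hx (hZ.fx fun Q' hQ' => ?_)
  obtain ⟨g, hg, rfl⟩ := syl_conj h hQ'
  have := hcon (g⁻¹ • x) (orb_inv x _ (Z.inv_mem hg) _ (self_mem x))
  rw [← Fx_sm g, smul_inv_smul] at this
  rw [coe_sm]; exact this

theorem tt_pos {Q : Sylow p G} {C : Finset Ω} (hC : Inv (Q : Subgroup G) C) {y : Ω} (hy : y ∈ C)
    (hm : ¬ Fx (Q : Subgroup G) y) : 1 ≤ tt p (Q : Subgroup G) C := by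
  have h1 := card_eq hC
  have h2 : fx (Q : Subgroup G) C < C.card :=
    card_lt_card ⟨filter_subset _ _, fun hs => hm (mem_filter.1 (hs hy)).2⟩
  by_contra h0
  have : tt p (Q : Subgroup G) C = 0 := by omega
  rw [this] at h1
  omega

/-- a `p`-subgroup normalising a subgroup containing a Sylow subgroup lies in it -/
theorem le_of_Fx {V R : Subgroup G} {Q : Sylow p G} (hQ : (Q : Subgroup G) ≤ V)
    (hR : IsPGroup p R) (h : Fx R V) : R ≤ V := by
  obtain ⟨T, hT⟩ := IsPGroup.exists_le_sylow (hR.comap_subtype (K := St (⊤ : Subgroup G) V))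
  have hQ' : (Q : Subgroup G) ≤ St ⊤ V := le_St.2 ⟨le_top, fun g hg => sm_self (hQ hg)⟩
  obtain ⟨g, hg⟩ := MulAction.exists_smul_eq (St (⊤ : Subgroup G) V) (Q.subtype hQ') T
  rw [Sylow.smul_subtype] at hg
  intro r hr
  have h1 : (⟨r, mem_St.2 ⟨trivial, h r hr⟩⟩ : St (⊤ : Subgroup G) V) ∈ T := hT hr
  rw [← hg] at h1
  have h2 : r ∈ (((g : G) • Q : Sylow p G) : Subgroup G) := h1
  rw [coe_sm] at h2
  rw [← (mem_St.1 g.2).2]
  exact sm_mono hQ h2

theorem Fx_iff_le {V : Subgroup G} (hV : Good p V) {Q : Sylow p G} :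
    Fx (Q : Subgroup G) V ↔ (Q : Subgroup G) ≤ V := by
  obtain ⟨Q', hQ'⟩ := hV.ex
  exact ⟨le_of_Fx hQ' Q.isPGroup', fun h g hg => sm_self (h hg)⟩

theorem Good.Fx_iff {U V : Subgroup G} (hU : Good p U) (hV : Good p V) : Fx U V ↔ U ≤ V :=
  ⟨fun h => hU.le fun _ hQ => (Fx_iff_le hV).1 (h.mono hQ), fun h _ hg => sm_self (h hg)⟩

theorem Op_St_self {Z V : Subgroup G} (hV : Good p V) (h : V ≤ Z) : Op p (St Z V) = V := by
  conv_rhs => rw [← hV.op]
  refine Op_congr fun Q => ?_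
  rw [le_St, Fx_iff_le hV]
  exact ⟨fun h' => h'.2, fun h' => ⟨h'.trans h, h'⟩⟩

/-- double counting of incident pairs (point, Sylow subgroup) -/
theorem bridge {Z : Subgroup G} (x : Ω) {Q : Sylow p G} (h : (Q : Subgroup G) ≤ Z) :
    fx (Q : Subgroup G) (orb Z x) * nu p Z = (orb Z x).card * nu p (St Z x) := by
  let : Fintype (Sylow p G) := Fintype.ofFinite _
  have e : ∀ V : Subgroup G, nu p V =
      ((univ : Finset (Sylow p G)).filter (fun Q : Sylow p G => (Q : Subgroup G) ≤ V)).card :=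
    fun V => by rw [← Set.ncard_coe_finset]; unfold nu; congr 1; ext Q; simp
  have h1 := sum_card_bipartiteAbove_eq_sum_card_bipartiteBelow
    (s := (univ : Finset (Sylow p G)).filter (fun Q : Sylow p G => (Q : Subgroup G) ≤ Z)) (t := orb Z x)
    (fun (Q : Sylow p G) y => Fx (Q : Subgroup G) y)
  rw [sum_congr rfl (g := fun _ => fx (Q : Subgroup G) (orb Z x)),
    sum_congr (s₁ := orb Z x) rfl (g := fun _ => nu p (St Z x)), sum_const, sum_const, smul_eq_mul, smul_eq_mul,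
    ← e, mul_comm] at h1
  · exact h1
  · intro y hy
    obtain ⟨g, hg, rfl⟩ := mem_orb.1 hy
    rw [← nu_sm g (St Z x), St_sm, sm_self hg, e, bipartiteBelow, filter_filter]
    congr 1
    exact filter_congr fun Q _ => le_St.symm
  · intro Q' hQ'
    exact fx_eq (orb_inv x) (mem_filter.1 hQ').2 h

end Syl

end Cfsg.Agent.FPS
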